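import Mathlib

/-!
# A matrix with irreducible characteristic polynomial: every non-zero vector is cyclic
-/

set_option autoImplicit false

namespace Cfsg.Agent.Lib.Helper42.OMG

open Matrix Polynomial

universe u

/-- the evaluation map `p ↦ p(M) v` -/
noncomputable def evalAt {F : Type u} [Field F] {ι : Type} [Fintype ι] [DecidableEq ι]
    (M : Matrix ι ι F) (v : ι → F) : F[X] →ₗ[F] (ι → F) where
  toFun p := (aeval M p) *ᵥ v
  map_add' p q := by rw [map_add, Matrix.add_mulVec]
  map_smul' c p := by rw [map_smul, Matrix.smul_mulVec, RingHom.id_apply]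

theorem evalAt_apply {F : Type u} [Field F] {ι : Type} [Fintype ι] [DecidableEq ι]
    (M : Matrix ι ι F) (v : ι → F) (p : F[X]) : evalAt M v p = (aeval M p) *ᵥ v := rfl

theorem evalAt_mem_span {F : Type u} [Field F] {ι : Type} [Fintype ι] [DecidableEq ι]
    (M : Matrix ι ι F) (v : ι → F) (p : F[X]) :
    evalAt M v p ∈ Submodule.span F (Set.range fun j : ℕ => (M ^ j) *ᵥ v) := by
  induction p using Polynomial.induction_on' with
  | add p q hp hq =>
    rw [map_add]
    exact Submodule.add_mem _ hp hq
  | monomial n a =>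
    rw [evalAt_apply, aeval_monomial, Algebra.algebraMap_eq_smul_one, smul_mul_assoc, one_mul,
      Matrix.smul_mulVec]
    exact Submodule.smul_mem _ _ (Submodule.subset_span ⟨n, rfl⟩)

/-- if `p(M) v = 0` with `v ≠ 0` and `deg p < dim` then `p = 0` -/
theorem eq_zero_of_evalAt {F : Type u} [Field F] {ι : Type} [Fintype ι] [DecidableEq ι]
    (M : Matrix ι ι F) (hM : Irreducible M.charpoly) (v : ι → F) (hv : v ≠ 0) (p : F[X])
    (hp : p.degree < (Fintype.card ι : WithBot ℕ)) (h0 : evalAt M v p = 0) : p = 0 := by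
  by_contra hne
  have hnd : ¬ M.charpoly ∣ p := by
    intro hd
    have h1 := Polynomial.degree_le_of_dvd hd hne
    rw [Matrix.charpoly_degree_eq_dim] at h1
    exact absurd hp (not_lt.mpr h1)
  obtain ⟨s, t, hst⟩ := hM.coprime_iff_not_dvd.mpr hnd
  apply hv
  have h2 : (aeval M (s * M.charpoly + t * p)) *ᵥ v = v := by
    rw [hst, map_one, Matrix.one_mulVec]
  rw [map_add, map_mul, map_mul, Matrix.aeval_self_charpoly, mul_zero, zero_add,
    ← Matrix.mulVec_mulVec] at h2
  rw [evalAt_apply] at h0
  rw [h0, Matrix.mulVec_zero] at h2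
  exact h2.symm

/-- A matrix with irreducible characteristic polynomial: the powers applied to a non-zero vector
span the whole space. -/
theorem span_of_irreducible_charpoly {F : Type u} [Field F] {ι : Type} [Fintype ι]
    [DecidableEq ι] (M : Matrix ι ι F) (hM : Irreducible M.charpoly) (v : ι → F) (hv : v ≠ 0) :
    Submodule.span F (Set.range fun j : ℕ => (M ^ j) *ᵥ v) = ⊤ := by
  have hinj : Function.Injective ((evalAt M v).domRestrict (degreeLT F (Fintype.card ι))) := by
    rw [injective_iff_map_eq_zero]
    intro p hp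
    apply Subtype.ext
    exact eq_zero_of_evalAt M hM v hv p.1 (mem_degreeLT.mp p.2) hp
  have hfin : Module.finrank F (degreeLT F (Fintype.card ι)) = Module.finrank F (ι → F) := by
    rw [LinearEquiv.finrank_eq (degreeLTEquiv F (Fintype.card ι)), Module.finrank_fin_fun,
      Module.finrank_fintype_fun_eq_card]
  have : FiniteDimensional F (degreeLT F (Fintype.card ι)) :=
    LinearEquiv.finiteDimensional (degreeLTEquiv F (Fintype.card ι)).symm
  have hsurj := (LinearMap.injective_iff_surjective_of_finrank_eq_finrank hfin).mp hinj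
  rw [eq_top_iff]
  intro w _
  obtain ⟨p, rfl⟩ := hsurj w
  exact evalAt_mem_span M v p.1

/-- the same in additive form: the additive subgroup generated by the multiples `c • Mʲ v`. -/
theorem addClosure_of_irreducible_charpoly {F : Type u} [Field F] {ι : Type} [Fintype ι]
    [DecidableEq ι] (M : Matrix ι ι F) (hM : Irreducible M.charpoly) (v : ι → F) (hv : v ≠ 0)
    (w : ι → F) :
    w ∈ AddSubgroup.closure {x : ι → F | ∃ (c : F) (j : ℕ), x = c • ((M ^ j) *ᵥ v)} := by
  have hsm : ∀ (c : F) (x : ι → F),
      x ∈ AddSubgroup.closure {x : ι → F | ∃ (c : F) (j : ℕ), x = c • ((M ^ j) *ᵥ v)} →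
      c • x ∈ AddSubgroup.closure {x : ι → F | ∃ (c : F) (j : ℕ), x = c • ((M ^ j) *ᵥ v)} := by
    intro c x hx
    induction hx using AddSubgroup.closure_induction with
    | mem y hy =>
      obtain ⟨c', j, rfl⟩ := hy
      exact AddSubgroup.subset_closure ⟨c * c', j, by rw [smul_smul]⟩
    | zero => rw [smul_zero]; exact AddSubgroup.zero_mem _
    | add y z _ _ hy hz => rw [smul_add]; exact AddSubgroup.add_mem _ hy hz
    | neg y _ hy => rw [smul_neg]; exact AddSubgroup.neg_mem _ hy
  have hw : w ∈ Submodule.span F (Set.range fun j : ℕ => (M ^ j) *ᵥ v) := by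
    rw [span_of_irreducible_charpoly M hM v hv]
    exact Submodule.mem_top
  induction hw using Submodule.span_induction with
  | mem x hx =>
    obtain ⟨j, rfl⟩ := hx
    exact AddSubgroup.subset_closure ⟨1, j, (one_smul _ _).symm⟩
  | zero => exact AddSubgroup.zero_mem _
  | add x y _ _ hx hy => exact AddSubgroup.add_mem _ hx hy
  | smul c x _ hx => exact hsm c x hx

end Cfsg.Agent.Lib.Helper42.OMG
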